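import Mathlib

/-!
# Maximal ideals with separable residue field on smooth algebras over a field
-/

set_option autoImplicit false
set_option linter.style.haveILetI false

universe u

namespace Groth.Agent.SmoothPts

open MvPolynomial

/-- An algebra étale over a polynomial ring has, in every nonempty open set, a maximal ideal with finite
separable residue field. -/
theorem exists_separable_maximal {k A : Type u} [Field k] [CommRing A] [Algebra k A] {n : ℕ}
    (g : MvPolynomial (Fin n) k →ₐ[k] A) (hg : g.toRingHom.Etale) (a : A) (ha : ¬ IsNilpotent a) :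
    ∃ Q : Ideal A, Q.IsMaximal ∧ a ∉ Q ∧ Module.Finite k (A ⧸ Q) ∧ Algebra.IsSeparable k (A ⧸ Q) := by
  classical
  letI := g.toRingHom.toAlgebra
  haveI : IsScalarTower k (MvPolynomial (Fin n) k) A := .of_algebraMap_eq fun c => (g.commutes c).symm
  haveI : Algebra.Etale (MvPolynomial (Fin n) k) A := hg
  haveI : Algebra.FiniteType k A := Algebra.FiniteType.trans (S := MvPolynomial (Fin n) k) inferInstance inferInstance
  by_cases hk : PerfectField k
  · haveI : IsJacobsonRing A := isJacobsonRing_of_finiteType (A := k)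
    obtain ⟨Q, hQ, haQ⟩ : ∃ Q : Ideal A, Q.IsMaximal ∧ a ∉ Q := by
      by_contra hne
      push Not at hne
      refine ha ?_
      rw [← mem_nilradical, nilradical, Ideal.zero_eq_bot, Ideal.radical_eq_jacobson,
        Ideal.jacobson, Submodule.mem_sInf]
      exact fun Q hQ => hne Q hQ.2
    haveI := hQ
    letI := Ideal.Quotient.field Q
    haveI : Module.Finite k (A ⧸ Q) := finite_of_finite_type_of_isJacobsonRing k (A ⧸ Q)
    exact ⟨Q, hQ, haQ, inferInstance, inferInstance⟩
  haveI : Infinite k := not_finite_iff_infinite.1 fun h => hk (by haveI := h; infer_instance)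
  -- a rational point in the image of `D(a)`
  let S := PrimeSpectrum.comap (algebraMap (MvPolynomial (Fin n) k) A) ''
    (PrimeSpectrum.basicOpen a : Set (PrimeSpectrum A))
  have hopen : IsOpen S :=
    PrimeSpectrum.isOpenMap_comap_of_hasGoingDown_of_finitePresentation _ (PrimeSpectrum.basicOpen a).isOpen
  obtain ⟨p₀, hp₀⟩ : ∃ p : PrimeSpectrum A, a ∉ p.asIdeal := by
    by_contra hne
    push Not at hne
    exact ha (mem_nilradical.1 (nilradical_eq_sInf A ▸ Submodule.mem_sInf.2 fun p hp => hne ⟨p, hp⟩))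
  obtain ⟨_, ⟨b, rfl⟩, hb, hbS⟩ := PrimeSpectrum.isTopologicalBasis_basic_opens.exists_subset_of_mem_open
    (show PrimeSpectrum.comap _ p₀ ∈ S from ⟨p₀, hp₀, rfl⟩) hopen
  have hb0 : b ≠ 0 := fun e => hb (by rw [e]; exact zero_mem _)
  obtain ⟨c, hc⟩ : ∃ c : Fin n → k, eval c b ≠ 0 := by
    by_contra hne
    push Not at hne
    exact hb0 (MvPolynomial.funext fun c => by rw [hne c, map_zero])
  let P : PrimeSpectrum (MvPolynomial (Fin n) k) := ⟨RingHom.ker (eval c), RingHom.ker_isPrime _⟩
  obtain ⟨Q, haQ, hQP⟩ := hbS (show P ∈ PrimeSpectrum.basicOpen b from hc)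
  have hker : ∀ q, eval c q = 0 → g q ∈ Q.asIdeal := fun q hq => by
    have : q ∈ (PrimeSpectrum.comap (algebraMap (MvPolynomial (Fin n) k) A) Q).asIdeal := by rw [hQP]; exact hq
    exact this
  letI : Algebra (MvPolynomial (Fin n) k) k := (eval c).toAlgebra
  haveI : IsScalarTower (MvPolynomial (Fin n) k) k (A ⧸ Q.asIdeal) := .of_algebraMap_eq fun q => by
    show Ideal.Quotient.mk Q.asIdeal (g q) = Ideal.Quotient.mk Q.asIdeal (algebraMap k A (eval c q))
    rw [Ideal.Quotient.eq, ← g.commutes, ← map_sub]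
    exact hker _ (by simp)
  haveI : Algebra.FormallyUnramified (MvPolynomial (Fin n) k) (A ⧸ Q.asIdeal) :=
    Algebra.FormallyUnramified.comp _ A _
  haveI : Algebra.FormallyUnramified k (A ⧸ Q.asIdeal) :=
    Algebra.FormallyUnramified.of_restrictScalars (MvPolynomial (Fin n) k) k _
  haveI : Module.Finite k (A ⧸ Q.asIdeal) := Algebra.FormallyUnramified.finite_of_free _ _
  have hmax : Q.asIdeal.IsMaximal := Ideal.Quotient.maximal_of_isField _ (isField_of_isIntegral_of_isField'
    (Field.toIsField k))
  haveI := hmax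
  letI := Ideal.Quotient.field Q.asIdeal
  exact ⟨Q.asIdeal, hmax, haQ, inferInstance, Algebra.FormallyUnramified.isSeparable k (A ⧸ Q.asIdeal)⟩

end Groth.Agent.SmoothPts
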